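import Mathlib
import Cfsg.Agent.H374.R.LOutB_m3
import Cfsg.Agent.H437.SporNum
import Cfsg.Agent.S3632
import Cfsg.Agent.S2475
import Cfsg.Agent.SignalizersComponents.ComponentExists
import Cfsg.Agent.ClassicalGeometry.PSL2Basic
import Cfsg.Agent.BpSpor.Cen
import Cfsg.Agent.Prune
set_option linter.all false

section
prune_inst 0x7f00000000000000000000000000000000000000000000000000000000000000000000000000000000000000000000000000000000000000000000000000000000000000000000000000000000000000003fffffffffffffffffffffffffffbeffbdffffffff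

-- part: H374/R/Spor
section
set_option linter.all false
open scoped Cfsg.Agent.FastGrp

/-!
# `(9 ^ n + 1) / 2`, `n ≥ 3` odd, does not divide the order of a sporadic group
-/

set_option autoImplicit false

namespace Cfsg.Agent.H374.R.Spor

/-- least common multiple of the orders of the sporadic groups -/
def L : ℕ := 947454567739027579339558631381238297209966382022656000000000

theorem spor_dvd : ∀ N ∈ H437.sporList, N ∣ L := by decide +kernel

theorem L_eq : L = 2 ^ 46 * 3 ^ 20 * (7 ^ 6 * 11 ^ 3 * 19 * 23 * 31 * 43 * 47 * 59 * 67 * 71) *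
    (13 ^ 3 * 17 * 37 * 41) * (5 ^ 9 * 29) := by
  unfold L; norm_num

theorem pow_mod_period {a d p : ℕ} (h : a ^ d % p = 1 % p) (k : ℕ) : a ^ k % p = a ^ (k % d) % p := by
  conv_lhs => rw [← Nat.mod_add_div k d, pow_add, pow_mul, Nat.mul_mod, Nat.pow_mod (a ^ d), h]
  rw [← Nat.pow_mod, one_pow, ← Nat.mul_mod, mul_one]

/-- residues of `9 * 81 ^ k + 1` -/
theorem res (d p : ℕ) (h : 81 ^ d % p = 1 % p) (k : ℕ) :
    (9 * 81 ^ k + 1) % p = (9 * 81 ^ (k % d) + 1) % p := by
  rw [Nat.add_mod, Nat.mul_mod, pow_mod_period h k, ← Nat.mul_mod, ← Nat.add_mod]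

theorem not_dvd_of (d p : ℕ) (hd : 0 < d) (h : 81 ^ d % p = 1 % p)
    (hc : ∀ k < d, (9 * 81 ^ k + 1) % p ≠ 0) (k : ℕ) : ¬ p ∣ 9 * 81 ^ k + 1 := by
  intro hdv
  have h1 := Nat.mod_eq_zero_of_dvd hdv
  rw [res d p h k] at h1
  exact hc _ (Nat.mod_lt k hd) h1

theorem two_M {n : ℕ} (ho : Odd n) : ∃ k, n = 2 * k + 1 ∧ 3 ^ n * 3 ^ n + 1 = 9 * 81 ^ k + 1 := by
  obtain ⟨k, rfl⟩ := ho
  refine ⟨k, rfl, ?_⟩
  have : (81 : ℕ) ^ k = 3 ^ k * 3 ^ k * (3 ^ k * 3 ^ k) := by
    rw [← mul_pow, ← mul_pow]; norm_num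
  rw [this, pow_succ, pow_mul]
  have : ((3 : ℕ) ^ 2) ^ k = 3 ^ k * 3 ^ k := by rw [← mul_pow]; norm_num
  rw [this]; ring

theorem coprime_mod {n p : ℕ} (ho : Odd n) (h3 : 3 ≤ n) (d : ℕ) (hd : 0 < d) (h : 81 ^ d % p = 1 % p) (hp : p.Prime)
    (hc : ∀ k < d, (9 * 81 ^ k + 1) % p ≠ 0) (e : ℕ) : Nat.Coprime (M n) (p ^ e) := by
  apply Nat.Coprime.pow_right
  rw [Nat.coprime_comm, Nat.Prime.coprime_iff_not_dvd hp]
  intro hdv
  obtain ⟨k, -, hk⟩ := two_M ho
  apply not_dvd_of d p hd h hc k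
  rw [← hk, ← (q_facts ho h3).hM]
  exact hdv.mul_left 2

theorem not_dvd_L {n : ℕ} (ho : Odd n) (h3 : 3 ≤ n) : ¬ M n ∣ L := by
  intro hL
  have hQ := q_facts ho h3
  obtain ⟨k, hn, hk⟩ := two_M ho
  have h2M : 2 * M n = 9 * 81 ^ k + 1 := by rw [hQ.hM, hk]
  -- the large primes
  have h1181 : ¬ 1181 ∣ M n := by
    intro h
    have : 1181 ∣ L := h.trans hL
    revert this
    unfold L
    norm_num
  have h16493 : ¬ 16493 ∣ M n := by
    intro h
    have : 16493 ∣ L := h.trans hL
    revert this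
    unfold L
    norm_num
  have h25 : ¬ 25 ∣ M n := by
    intro h
    have h1 : 25 ∣ 9 * 81 ^ k + 1 := by rw [← h2M]; exact h.mul_left 2
    have h2 := Nat.mod_eq_zero_of_dvd h1
    rw [res 5 25 (by norm_num) k] at h2
    have h4 : k % 5 = 2 := by
      have := Nat.mod_lt k (show 0 < 5 by norm_num)
      interval_cases (k % 5) <;> simp_all
    apply h1181
    have h5 : 1181 ∣ 9 * 81 ^ k + 1 := by
      apply Nat.dvd_of_mod_eq_zero
      rw [res 5 1181 (by norm_num) k, h4]
      norm_num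
    rw [← h2M] at h5
    exact (Nat.Coprime.dvd_of_dvd_mul_left (by norm_num) h5)
  have h29 : ¬ 29 ∣ M n := by
    intro h
    have h1 : 29 ∣ 9 * 81 ^ k + 1 := by rw [← h2M]; exact h.mul_left 2
    have h2 := Nat.mod_eq_zero_of_dvd h1
    rw [res 7 29 (by norm_num) k] at h2
    have h4 : k % 7 = 3 := by
      have := Nat.mod_lt k (show 0 < 7 by norm_num)
      interval_cases (k % 7) <;> simp_all
    apply h16493
    have h5 : 16493 ∣ 9 * 81 ^ k + 1 := by
      apply Nat.dvd_of_mod_eq_zero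
      rw [res 7 16493 (by norm_num) k, h4]
      norm_num
    rw [← h2M] at h5
    exact (Nat.Coprime.dvd_of_dvd_mul_left (by norm_num) h5)
  have hcop : Nat.Coprime (M n) (2 ^ 46 * 3 ^ 20 * (7 ^ 6 * 11 ^ 3 * 19 * 23 * 31 * 43 * 47 * 59 * 67 * 71) *
      (13 ^ 3 * 17 * 37 * 41)) := by
    have c2 : Nat.Coprime (M n) (2 ^ 46) := by
      apply Nat.Coprime.pow_right
      rw [Nat.coprime_comm, Nat.coprime_two_left, Nat.odd_iff]
      have := hQ.odd
      omega
    have c3 : Nat.Coprime (M n) (3 ^ 20) := by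
      apply Nat.Coprime.pow_right
      rw [Nat.coprime_comm]
      exact (Nat.Prime.coprime_iff_not_dvd Nat.prime_three).2 hQ.not_three
    have c7 := coprime_mod (p := 7) ho h3 3 (by norm_num) (by norm_num) (by norm_num) (by decide) 6
    have c11 := coprime_mod (p := 11) ho h3 5 (by norm_num) (by norm_num) (by norm_num) (by decide) 3
    have c19 := coprime_mod (p := 19) ho h3 9 (by norm_num) (by norm_num) (by norm_num) (by decide +kernel) 1
    have c23 := coprime_mod (p := 23) ho h3 11 (by norm_num) (by norm_num) (by norm_num) (by decide +kernel) 1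
    have c31 := coprime_mod (p := 31) ho h3 15 (by norm_num) (by norm_num) (by norm_num) (by decide +kernel) 1
    have c43 := coprime_mod (p := 43) ho h3 21 (by norm_num) (by norm_num) (by norm_num) (by decide +kernel) 1
    have c47 := coprime_mod (p := 47) ho h3 23 (by norm_num) (by norm_num) (by norm_num) (by decide +kernel) 1
    have c59 := coprime_mod (p := 59) ho h3 29 (by norm_num) (by norm_num) (by norm_num) (by decide +kernel) 1
    have c67 := coprime_mod (p := 67) ho h3 33 (by norm_num) (by norm_num) (by norm_num) (by decide +kernel) 1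
    have c71 := coprime_mod (p := 71) ho h3 35 (by norm_num) (by norm_num) (by norm_num) (by decide +kernel) 1
    have c13 := coprime_mod (p := 13) ho h3 3 (by norm_num) (by norm_num) (by norm_num) (by decide +kernel) 3
    have c17 := coprime_mod (p := 17) ho h3 4 (by norm_num) (by norm_num) (by norm_num) (by decide +kernel) 1
    have c37 := coprime_mod (p := 37) ho h3 9 (by norm_num) (by norm_num) (by norm_num) (by decide +kernel) 1
    have c41 := coprime_mod (p := 41) ho h3 2 (by norm_num) (by norm_num) (by norm_num) (by decide +kernel) 1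
    rw [pow_one] at c19 c23 c31 c43 c47 c59 c67 c71 c17 c37 c41
    exact ((c2.mul_right c3).mul_right (((((((((c7.mul_right c11).mul_right c19).mul_right c23).mul_right
      c31).mul_right c43).mul_right c47).mul_right c59).mul_right c67).mul_right c71)).mul_right
      (((c13.mul_right c17).mul_right c37).mul_right c41)
  rw [L_eq] at hL
  have h1 : M n ∣ 5 ^ 9 * 29 := hcop.dvd_of_dvd_mul_left hL
  have h2 : M n ∣ 5 ^ 9 := by
    refine Nat.Coprime.dvd_of_dvd_mul_right ?_ h1
    rw [Nat.coprime_comm]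
    exact (Nat.Prime.coprime_iff_not_dvd (by norm_num)).2 h29
  obtain ⟨j, -, hj⟩ := (Nat.dvd_prime_pow (by norm_num)).1 h2
  have hbig := hQ.big_M
  rw [hj] at h25 hbig
  rcases Nat.lt_or_ge j 2 with h | h
  · have : j = 0 ∨ j = 1 := by omega
    rcases this with rfl | rfl <;> norm_num at hbig
  · apply h25
    exact (show 25 = 5 ^ 2 by norm_num) ▸ pow_dvd_pow 5 h

end Cfsg.Agent.H374.R.Spor
end

-- part: H374/R/LThree
section
set_option linter.all false
open scoped Cfsg.Agent.FastGrp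

-- part: H374/R/Layer
section
/-!
# The simple section of a group with the spectrum of `PSp₄(q)`, `q = 3 ^ n`
-/

set_option autoImplicit false

namespace Cfsg.Agent.H374.R.Layer

open Subgroup Cfsg Cfsg.Agent.H466.Split Cfsg.Agent

universe u

theorem fpf_sylow {A : Set ℕ} {H : Type u} [Group H] [Finite H] (hs : Spl A H) (h2 : 2 ∉ A) (S : Subgroup H)
    [S.Normal] {r : ℕ} (hr : r.Prime) (hrA : r ∈ A) (hrS : r ∣ S.index) (P : Sylow 2 S) :
    Nat.card P ≡ 1 [MOD r] := by
  set P' : Subgroup H := (P : Subgroup S).map S.subtype with hP'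
  have h1 : normalizer P' ⊔ S = ⊤ := Sylow.normalizer_sup_eq_top P
  have h3 : r ∣ Nat.card (normalizer (P' : Set H)) := by
    have h4 : S.relIndex (normalizer (P' : Set H)) = S.index := by
      rw [← Subgroup.relIndex_sup_right, h1, Subgroup.relIndex_top_right]
    rw [← h4] at hrS
    exact hrS.trans (Subgroup.relIndex_dvd_card _ _)
  have := Fact.mk hr
  obtain ⟨g, hg⟩ := exists_prime_orderOf_dvd_card' (G := normalizer (P' : Set H)) r h3
  have hgo : orderOf (g : H) = r := by rw [Subgroup.orderOf_coe, hg]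
  have hP2 : IsPGroup 2 P' := P.2.map _
  have h5 := BpSpor.Cen.card_fix (p := r) (N := P') hgo (fun n hn => (Subgroup.mem_normalizer_iff.1 g.2 n).1 hn)
  have h6 : P' ⊓ centralizer ({(g : H)} : Set H) = ⊥ := by
    rw [eq_bot_iff]
    rintro x ⟨hx, hxc⟩
    rw [Subgroup.mem_bot]
    by_contra hx1
    refine hs.not_commute' (x := (g : H)) (y := x) (Rad.prime_mem hr hgo hrA) ?_ ?_ hx1 ?_
    · intro p hp hd
      obtain ⟨k, hk⟩ := hP2 ⟨x, hx⟩
      have h7 : orderOf x ∣ 2 ^ k := by
        apply orderOf_dvd_of_pow_eq_one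
        exact congrArg Subtype.val hk
      have h8 := hp.dvd_of_dvd_pow (hd.trans h7)
      rw [(Nat.prime_dvd_prime_iff_eq hp Nat.prime_two).1 h8]
      exact h2
    · intro h
      rw [h, orderOf_one] at hgo
      exact hr.one_lt.ne hgo
    · exact (Subgroup.mem_centralizer_singleton_iff.1 hxc).symm
  rw [h6, Subgroup.card_bot] at h5
  rwa [hP', Subgroup.card_map_of_injective S.subtype_injective] at h5

theorem spl {n : ℕ} {G : Type u} [Group G] (hQ : Q n (3 ^ n) (M n)) (hsp : ∀ g : G, W n (orderOf g)) :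
    Spl (A n) G := by
  intro g
  rcases (hsp g).cases hQ with h | h
  · left
    intro p hp hd
    exact hd.trans h
  · right
    intro p hp hd hpA
    exact hp.one_lt.ne' (Nat.dvd_one.1 (h ▸ Nat.dvd_gcd hpA hd))

theorem not_sixteen {n : ℕ} (hQ : Q n (3 ^ n) (M n)) {S : Type u} [Group S] (hW : ∀ x : S, W n (orderOf x))
    {F : Type} [Field F] [Fintype F] (ho : Odd (Fintype.card F))
    (e : S ≃* Matrix.ProjectiveSpecialLinearGroup (Fin 2) F) : ¬ 16 ∣ Nat.card S ∧ 2 ∣ Nat.card S := by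
  have h1 := ClassicalGeometry.PSL2Basic.card_PSL2_odd F ho
  rw [← Nat.card_congr e.toEquiv] at h1
  have hF2 : 2 ≤ Fintype.card F := Fintype.one_lt_card
  obtain ⟨k, hk⟩ := ho
  have h2 : Fintype.card F ^ 2 - 1 = 4 * (k * (k + 1)) := by
    rw [hk]
    have : (2 * k + 1) ^ 2 = 4 * (k * (k + 1)) + 1 := by ring
    omega
  have h3 : Nat.card S = 2 * (k * (k + 1)) * (2 * k + 1) := by
    have : Nat.card S * 2 = 2 * (k * (k + 1)) * (2 * k + 1) * 2 := by
      rw [h1, h2, hk]; ring
    omega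
  constructor
  · intro h16
    have h4 : 8 ∣ k * (k + 1) := by
      have h5 : 16 ∣ 2 * (k * (k + 1)) := by
        refine Nat.Coprime.dvd_of_dvd_mul_right ?_ (h3 ▸ h16)
        have : Nat.Coprime (2 ^ 4) (2 * k + 1) := by
          apply Nat.Coprime.pow_left
          rw [Nat.coprime_comm]
          simp only [_root_.Nat.coprime_two_right, _root_.even_two, _root_.Even.mul_right, _root_.Even.add_one]
        simpa using this
      omega
    have hk0 : 0 < k := by omega
    have hk3 : 7 ≤ k := by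
      by_contra hlt
      have : k = 1 ∨ k = 2 ∨ k = 3 ∨ k = 4 ∨ k = 5 ∨ k = 6 := by omega
      rcases this with rfl | rfl | rfl | rfl | rfl | rfl <;> (clear * - h16 h3; omega)
    have hprime : ∃ p : ℕ, p.Prime ∧ CharP F p := ⟨ringChar F, CharP.char_is_prime F _, inferInstance⟩
    obtain ⟨p, hp, hc⟩ := hprime
    have := Fact.mk hp
    have h5 := Cfsg.Agent.S2475.result (F := F) p (by omega)
    have hg : Nat.gcd 2 (Fintype.card F - 1) = 2 := Nat.gcd_eq_left (by omega)
    rw [hg] at h5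
    have key : ∀ m : ℕ, (m ∣ (Fintype.card F - 1) / 2 ∨ m ∣ (Fintype.card F + 1) / 2) → W n m := by
      intro m hm
      have h6 : m ∈ Set.range (orderOf : Matrix.ProjectiveSpecialLinearGroup (Fin 2) F → ℕ) := by
        rw [h5]
        exact Or.inr hm
      obtain ⟨x, hx⟩ := h6
      have := hW (e.symm x)
      rwa [MulEquiv.orderOf_eq, hx] at this
    have h7 : 8 ∣ k ∨ 8 ∣ k + 1 := by
      rcases Nat.even_or_odd k with he | he
      · left
        refine Nat.Coprime.dvd_of_dvd_mul_right ?_ h4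
        have : Nat.Coprime (2 ^ 3) (k + 1) := by
          apply Nat.Coprime.pow_left
          rw [Nat.coprime_two_left]
          exact he.add_one
        simpa using this
      · right
        refine Nat.Coprime.dvd_of_dvd_mul_left ?_ h4
        have : Nat.Coprime (2 ^ 3) k := by
          apply Nat.Coprime.pow_left
          rw [Nat.coprime_two_left]
          exact he
        simpa using this
    rcases h7 with h8 | h8
    · exact (key 8 (Or.inl (by rw [hk]; simpa only [_root_.add_tsub_cancel_right, _root_.ne_eq, _root_.OfNat.ofNat_ne_zero, _root_.not_false_eq_true, _root_.mul_div_cancel_left₀] using h8))).not_eight hQ dvd_rfl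
    · refine (key 8 (Or.inr ?_)).not_eight hQ dvd_rfl
      rw [hk, show (2 * k + 1 + 1) / 2 = k + 1 by omega]
      exact h8
  · rw [h3]
    exact Dvd.intro (k * (k + 1) * (2 * k + 1)) (by ring)

/-- the Sylow 2-subgroup of a group of order divisible by 2 and not by 16 -/
theorem card_sylow {S : Type u} [Group S] [Finite S] (h16 : ¬ 16 ∣ Nat.card S) (h2 : 2 ∣ Nat.card S)
    (P : Sylow 2 S) : Nat.card P = 2 ∨ Nat.card P = 4 ∨ Nat.card P = 8 := by
  have h1 := P.card_eq_multiplicity
  have h3 : (Nat.card S).factorization 2 ≤ 3 := by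
    by_contra hlt
    push Not at hlt
    apply h16
    have : 2 ^ 4 ∣ Nat.card S := (Nat.Prime.pow_dvd_iff_le_factorization Nat.prime_two Nat.card_pos.ne').2 hlt
    simpa using this
  have h4 : 1 ≤ (Nat.card S).factorization 2 :=
    (Nat.Prime.pow_dvd_iff_le_factorization Nat.prime_two Nat.card_pos.ne').1 (by simpa only [_root_.pow_one] using h2)
  rw [h1]
  generalize (Nat.card S).factorization 2 = k at *
  have : k = 1 ∨ k = 2 ∨ k = 3 := by omega
  rcases this with rfl | rfl | rfl <;> norm_num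

theorem layer {n : ℕ} {G : Type u} [Group G] [Finite G] (hQ : Q n (3 ^ n) (M n))
    (hsp : ∀ m, m ∈ Set.range (orderOf : G → ℕ) ↔ W n m) :
    ∃ (K : Subgroup G) (_ : K.Normal), Group.IsSolvable K ∧
      (∀ L : Subgroup G, L.Normal → Group.IsSolvable ↥L → L ≤ K) ∧
      (∀ p : ℕ, p.Prime → p ∣ Nat.card K → p ∉ A n) ∧
      ∃ S : Subgroup (G ⧸ K), S.Normal ∧ IsSimpleGroup S ∧ ¬ IsMulCommutative S ∧
        centralizer (S : Set (G ⧸ K)) = ⊥ ∧ (∃ x : S, orderOf x = M n) ∧ (∀ x : S, W n (orderOf x)) ∧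
        (∀ x : G ⧸ K, W n (orderOf x)) ∧ (∀ p : ℕ, p.Prime → p ∈ A n → ¬ p ∣ S.index) := by
  have hW : ∀ g : G, W n (orderOf g) := fun g => (hsp _).1 ⟨g, rfl⟩
  have hs : Spl (A n) G := spl hQ hW
  have p5 : Nat.Prime 5 := by norm_num
  have hbig := hQ.big_M
  have h5A : 5 ∈ A n := hQ.five
  have h2A : 2 ∉ A n := by
    intro h; have : 2 ∣ M n := h; have := hQ.odd; omega
  have h3A : 3 ∉ A n := hQ.not_three
  obtain ⟨s, hsp', hs5, hsd, hsM⟩ := exists_s hQ
  obtain ⟨b, hb⟩ := (hsp 5).2 (Or.inr (Or.inr (Or.inr (Or.inl hQ.five))))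
  obtain ⟨t, ht⟩ := (hsp 2).2 (Or.inl (by have := hQ.mod; have := hQ.big; omega))
  obtain ⟨x, hx⟩ := (hsp 9).2 (Or.inr (Or.inr (Or.inr (Or.inr dvd_rfl))))
  obtain ⟨y, hy⟩ := (hsp s).2 (W_s hQ hsd)
  have h18 : ∀ g : G, ¬ 18 ∣ orderOf g := by
    intro g h
    have h1 := (hW g).nine hQ ((by norm_num : 9 ∣ 18).trans h)
    have := Nat.le_of_dvd (by norm_num) (h.trans h1)
    omega
  have h9s : ∀ g : G, ¬ 9 * s ∣ orderOf g := by
    intro g h
    have h1 := (hW g).nine hQ ((Dvd.intro _ rfl).trans h)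
    have := Nat.le_of_dvd (by norm_num) (h.trans h1)
    omega
  have hmain := fun (L : Subgroup G) (hL : L.Normal) (hLs : Group.IsSolvable L) =>
    Rad.main hs h5A h2A h3A hb ht hx hsp' (by omega) (by omega) hsM hy h18 h9s L hLs
  have hns : ¬ Group.IsSolvable G := by
    intro h
    have : Group.IsSolvable (⊤ : Subgroup G) :=
      Group.isSolvable_of_isSolvable_injective (f := (⊤ : Subgroup G).subtype) (Subgroup.subtype_injective _)
    refine hmain ⊤ inferInstance this 5 p5 ?_ h5A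
    rw [Subgroup.card_top, ← hb]
    exact _root_.orderOf_dvd_natCard b
  have hodd : ∀ p : ℕ, p.Prime → p ∈ A n → p ≠ 2 ∧ p ∣ Nat.card G ∧ ¬ ∃ x : G, orderOf x = 2 * p := by
    intro p hp hpA
    refine ⟨?_, ?_, ?_⟩
    · rintro rfl; exact h2A hpA
    · obtain ⟨g, hg⟩ := (hsp p).2 (Or.inr (Or.inr (Or.inr (Or.inl hpA))))
      rw [← hg]; exact _root_.orderOf_dvd_natCard g
    · rintro ⟨g, hg⟩
      rcases hs g with h1 | h1
      · exact h2A (h1 2 Nat.prime_two (by rw [hg]; exact Dvd.intro _ rfl))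
      · exact h1 p hp (by rw [hg]; exact Dvd.intro_left _ rfl) hpA
  obtain ⟨K, hKc, hKs, hKmax⟩ := SignalizersComponents.ComponentExists.exists_solvableRadical G
  have hKn : K.Normal := inferInstance
  have hKA := hmain K hKn hKs
  obtain ⟨S, hSn, hSs, hSc, hScen, -, hS⟩ := Cfsg.Agent.S3632.result hns
    ⟨5, p5, by norm_num, (hodd 5 p5 h5A).2.1, (hodd 5 p5 h5A).2.2⟩ K hKs hKmax
  have hWq : ∀ x : G ⧸ K, W n (orderOf x) := by
    intro x
    obtain ⟨g, rfl⟩ := QuotientGroup.mk'_surjective K x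
    exact (hW g).dvd (orderOf_map_dvd _ g)
  have hWS : ∀ x : S, W n (orderOf x) := by
    intro x
    rw [← Subgroup.orderOf_coe]
    exact hWq x
  have hsq : Spl (A n) (G ⧸ K) := hs.quotient K
  have hidx : ∀ p : ℕ, p.Prime → p ∈ A n → ¬ p ∣ S.index := by
    intro p hp hpA hd
    have := Fact.mk hp
    have hsmall : ¬ 16 ∣ Nat.card S ∧ 2 ∣ Nat.card S → False := by
      rintro ⟨h16, h2⟩
      have h1 := fpf_sylow hsq h2A S hp hpA hd default
      have h4 := card_sylow h16 h2 default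
      have h7 : ¬ p = 7 := by
        rintro rfl; exact hQ.seven hpA
      have h3 : ¬ p = 3 := by
        rintro rfl; exact h3A hpA
      have h8 : p ∣ Nat.card (default : Sylow 2 S) - 1 :=
        (Nat.modEq_iff_dvd' (by omega)).1 h1.symm
      rcases h4 with h4 | h4 | h4 <;> rw [h4] at h8
      · exact hp.one_lt.ne' (Nat.dvd_one.1 h8)
      · exact h3 ((Nat.prime_dvd_prime_iff_eq hp Nat.prime_three).1 h8)
      · exact h7 ((Nat.prime_dvd_prime_iff_eq hp (by norm_num)).1 h8)
    rcases hS with ((⟨⟨e⟩⟩ | ⟨F, _, _, ho, ⟨e⟩⟩) | hsyl)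
    · apply hsmall
      have h1 : Nat.card (alternatingGroup (Fin 7)) = 2520 := by
        rw [nat_card_alternatingGroup, Nat.card_eq_fintype_card, Fintype.card_fin]; rfl
      rw [Nat.card_congr e.toEquiv, h1]
      norm_num
    · exact hsmall (not_sixteen hQ hWS ho e)
    · obtain ⟨hp2, hpG, hp2G⟩ := hodd p hp hpA
      have P : Sylow p G := default
      have R : Sylow p S := default
      obtain ⟨e⟩ := hsyl p hp hp2 hpG hp2G P R
      have h1 := Nat.card_congr e.toEquiv
      rw [show Nat.card ↥P = _ from P.card_eq_multiplicity, show Nat.card ↥R = _ from R.card_eq_multiplicity] at h1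
      have h2 := Nat.pow_right_injective hp.two_le h1
      have h3 : Nat.card G = Nat.card K * (Nat.card S * S.index) := by
        rw [Subgroup.card_mul_index, ← Subgroup.card_mul_index K]; rfl
      have hS0 : Nat.card S ≠ 0 := Nat.card_pos.ne'
      have hi0 : S.index ≠ 0 := Subgroup.index_ne_zero_of_finite
      have hK0 : Nat.card K ≠ 0 := Nat.card_pos.ne'
      rw [h3, Nat.factorization_mul hK0 (mul_ne_zero hS0 hi0), Nat.factorization_mul hS0 hi0] at h2
      simp only [Finsupp.coe_add, Pi.add_apply] at h2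
      have h4 : S.index.factorization p ≠ 0 := by
        have := hp.factorization_pos_of_dvd hi0 hd
        omega
      omega
  refine ⟨K, hKn, hKs, hKmax, hKA, S, hSn, hSs, hSc, hScen, ?_, hWS, hWq, hidx⟩
  obtain ⟨g, hg⟩ := (hsp (M n)).2 (Or.inr (Or.inr (Or.inr (Or.inl dvd_rfl))))
  have hgM : ∀ p : ℕ, p.Prime → p ∣ orderOf g → p ∈ A n := by
    intro p hp hd; rwa [hg] at hd
  have h1 : orderOf (QuotientGroup.mk' K g) = M n := by
    refine Nat.dvd_antisymm (hg ▸ orderOf_map_dvd _ g) ?_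
    rw [← hg]
    apply orderOf_dvd_of_pow_eq_one
    have h2 : g ^ orderOf (QuotientGroup.mk' K g) ∈ K := by
      rw [← QuotientGroup.eq_one_iff]
      exact pow_orderOf_eq_one (QuotientGroup.mk' K g)
    refine eq_one_of_both (A := A n) ?_ ?_
    · intro p hp hd
      exact hgM p hp (hd.trans (orderOf_pow_dvd _))
    · exact order_mem (A := (A n)ᶜ) hKA h2
  have h2 : QuotientGroup.mk' K g ∈ S := by
    have hSn' := hSn
    rw [← QuotientGroup.eq_one_iff]
    refine eq_one_of_both (A := A n) ?_ ?_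
    · intro p hp hd
      exact hgM p hp ((hd.trans (orderOf_map_dvd (QuotientGroup.mk' S) _)).trans (orderOf_map_dvd _ g))
    · intro p hp hd hpA
      exact hidx p hp hpA (hd.trans (_root_.orderOf_dvd_natCard _))
  exact ⟨⟨_, h2⟩, by rw [Subgroup.orderOf_mk, h1]⟩

end Cfsg.Agent.H374.R.Layer
end

-- part: H374/R/LThree
section
/-!
# The case of a section `PSL₂(q²)`: the solvable radical is a 3-group
-/

set_option autoImplicit false

namespace Cfsg.Agent.H374.R.LThree

open Subgroup Cfsg Cfsg.Agent Cfsg.Agent.H466.Split Finset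
open Matrix Matrix.SpecialLinearGroup Cfsg.Agent.ClassicalGeometry.SplitTorus Cfsg.Agent.H371.CoverTwo

universe u

variable {F : Type} [Field F]

local notation "PSL2" => Matrix.ProjectiveSpecialLinearGroup (Fin 2) F
local notation "SL2" => Matrix.SpecialLinearGroup (Fin 2) F

/-- the root group acts trivially if the norms of a generator of the torus vanish -/
theorem root_trivial [Fintype F] {H V : Type*} [Group H] [CommGroup V] (θ : H →* MulAut V) (φ : PSL2 →* H)
    (hφ : Function.Injective φ) {e : ℕ} (hVe : ∀ v : V, v ^ e = 1) (hcop : (Fintype.card F).Coprime e) {g : Fˣ}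
    (hN : ∀ v : V, ∏ i ∈ range (orderOf (φ (prj F (dg g)))), θ (φ (prj F (dg g)) ^ i) v = 1) (v : V) :
    θ (φ (prj F (up 1))) v = v := by
  classical
  have hdgpow : ∀ i : ℕ, (dg g) ^ i = dg (g ^ i) := fun i => ((dgHom F).map_pow g i).symm
  have hconj : ∀ (i : ℕ) (b : F), prj F (dg g) ^ i * prj F (up b) =
      prj F (up (((g ^ i : Fˣ) : F) ^ 2 * b)) * prj F (dg g) ^ i := by
    intro i b
    rw [← map_pow, hdgpow, ← map_mul, ← map_mul]
    congr 1
    rw [← mul_inv_eq_iff_eq_mul]
    exact dg_conj_up _ _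
  refine Cfsg.Agent.H371.Frob.trivial_of_norm θ ((φ.comp (upHom F)).range) (c := φ (prj F (dg g)))
    (m := orderOf (φ (prj F (dg g)))) (e := e) ?_ ?_ ?_ hVe ?_ hN _ ⟨Multiplicative.ofAdd 1, rfl⟩ v
  · rw [orderOf_injective φ hφ]
    exact orderOf_pos _
  · rintro _ ⟨b, rfl⟩ i
    refine ⟨Multiplicative.ofAdd (((g ^ i : Fˣ) : F)⁻¹ ^ 2 * b.toAdd), ?_⟩
    have h1 := hconj i (((g ^ i : Fˣ) : F)⁻¹ ^ 2 * b.toAdd)
    have h0 : ((g ^ i : Fˣ) : F) ≠ 0 := (g ^ i).ne_zero
    rw [← mul_assoc, ← mul_pow, mul_inv_cancel₀ h0, one_pow, one_mul] at h1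
    have h2 := congrArg φ h1
    rw [map_mul, map_mul, map_pow] at h2
    rw [mul_assoc, eq_inv_mul_iff_mul_eq]
    exact h2
  · rintro i hi0 hi _ ⟨b, rfl⟩ hcomm
    rw [MonoidHom.comp_apply, ← map_pow, ← map_mul, ← map_mul] at hcomm
    have h1 := hφ hcomm
    have h2 : upHom F b = prj F (up b.toAdd) := rfl
    rw [h2, hconj, mul_left_inj] at h1
    have h3 := prj_up_eq h1
    by_cases hb : b.toAdd = 0
    · have : b = 1 := hb
      rw [this, map_one]
    · exfalso
      have h4 : ((g ^ i : Fˣ) : F) ^ 2 = 1 := mul_right_cancel₀ hb (by rw [h3, one_mul])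
      have h5 : (g ^ 2) ^ i = 1 := by
        apply Units.ext
        rw [Units.val_pow_eq_pow_val, Units.val_pow_eq_pow_val, Units.val_one, ← pow_mul, mul_comm, pow_mul,
          ← Units.val_pow_eq_pow_val, h4]
      have h6 := orderOf_dvd_of_pow_eq_one h5
      rw [orderOf_injective φ hφ, Cfsg.Agent.S0812.orderOf_mk_dg] at hi
      exact absurd (Nat.le_of_dvd hi0 h6) (not_le.2 hi)
  · have h2 := Subgroup.card_range_dvd (φ.comp (upHom F))
    have h3 : Nat.card (Multiplicative F) = Fintype.card F := by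
      rw [Nat.card_congr (Multiplicative.toAdd (α := F))]
      exact Nat.card_eq_fintype_card
    rw [h3] at h2
    exact Nat.Coprime.coprime_dvd_left h2 hcop

theorem prj_up_ne : prj F (up 1) ≠ (1 : PSL2) := by
  intro h
  have : prj F (up 1) = prj F (up 0) := by rw [h, up_zero, map_one]
  exact one_ne_zero (prj_up_eq this)

variable {n : ℕ}

/-- if the radical acts on `V` then the characteristic of `V` is three -/
theorem eq_three {G : Type u} [Group G] [Finite G] (hQ : Q n (3 ^ n) (M n)) (hW : ∀ g : G, W n (orderOf g))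
    {K : Subgroup G} [K.Normal] [Fintype F] (hF : Fintype.card F = 3 ^ n * 3 ^ n) [IsSimpleGroup PSL2]
    (f : PSL2 →* G ⧸ K) (hf : Function.Injective f) {x : PSL2} (hx : orderOf x = M n)
    {V : Type u} [CommGroup V] [Nontrivial V] {e : ℕ} (he : e.Prime) (heA : e ∉ A n) (hVe : ∀ v : V, v ^ e = 1)
    (θ : G ⧸ K →* MulAut V)
    (hθ : ∀ c : G ⧸ K, (∃ v : V, ∏ i ∈ range (orderOf c), θ (c ^ i) v ≠ 1) → ∃ y : G, orderOf c * e ∣ orderOf y) :
    e = 3 := by
  classical
  by_contra h3
  have hM := hQ.hM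
  have hbig := hQ.big
  have hbM := hQ.big_M
  have h2e := he.two_le
  -- the kernel
  have hker : (θ.comp f).ker = ⊥ ∨ (θ.comp f).ker = ⊤ := IsSimpleGroup.eq_bot_or_eq_top_of_normal _ inferInstance
  have htop : (θ.comp f).ker ≠ ⊤ := by
    intro h
    obtain ⟨v, hv⟩ := exists_ne (1 : V)
    obtain ⟨y, hy⟩ := hθ (f x) ⟨v, by
      rw [orderOf_injective f hf, hx]
      have h1 : ∀ i ∈ range (M n), θ (f x ^ i) v = v := by
        intro i _
        have h2 : x ^ i ∈ (θ.comp f).ker := by rw [h]; trivial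
        rw [MonoidHom.mem_ker, MonoidHom.comp_apply, map_pow] at h2
        rw [h2]; rfl
      rw [Finset.prod_congr rfl h1, Finset.prod_const, Finset.card_range]
      intro h2
      have h3 : v ^ (Nat.gcd (M n) e) = 1 := pow_gcd_eq_one.2 ⟨h2, hVe v⟩
      have h4 : Nat.gcd (M n) e = 1 := by
        rw [Nat.gcd_comm]
        exact (Nat.Prime.coprime_iff_not_dvd he).2 heA
      rw [h4, pow_one] at h3
      exact hv h3⟩
    rw [orderOf_injective f hf, hx] at hy
    have h1 := Nat.le_of_dvd (orderOf_pos y) hy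
    have h2 := W.le hQ (hW y)
    nlinarith only [hbM, h2e, h1, h2]
  have hbot : (θ.comp f).ker = ⊥ := hker.resolve_right htop
  obtain ⟨g, hg⟩ := IsCyclic.exists_generator (α := Fˣ)
  have hgo : orderOf g = 3 ^ n * 3 ^ n - 1 := by
    rw [orderOf_eq_card_of_forall_mem_zpowers hg, Nat.card_units, Nat.card_eq_fintype_card, hF]
  have hodd := hQ.sq16
  have hco : orderOf (f (prj F (dg g))) = (3 ^ n * 3 ^ n - 1) / 2 := by
    rw [orderOf_injective f hf, Cfsg.Agent.S0812.orderOf_mk_dg, orderOf_pow, hgo]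
    have : Nat.gcd (3 ^ n * 3 ^ n - 1) 2 = 2 := Nat.gcd_eq_right (by omega)
    rw [this]
  have hcop : (Fintype.card F).Coprime e := by
    rw [hF, ← pow_two, ← pow_mul]
    exact Nat.Coprime.pow_left _ ((Nat.coprime_primes Nat.prime_three he).2 (Ne.symm h3))
  -- the norms do not vanish
  have hnorm : ∃ v : V, ∏ i ∈ range (orderOf (f (prj F (dg g)))), θ (f (prj F (dg g)) ^ i) v ≠ 1 := by
    by_contra hcon
    push Not at hcon
    have h1 := root_trivial θ f hf hVe hcop hcon
    have h2 : prj F (up 1) ∈ (θ.comp f).ker := by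
      rw [MonoidHom.mem_ker, MonoidHom.comp_apply]
      apply MulEquiv.ext
      exact h1
    rw [hbot, Subgroup.mem_bot] at h2
    exact prj_up_ne h2
  obtain ⟨y, hy⟩ := hθ _ hnorm
  rw [hco] at hy
  have h1 := Nat.le_of_dvd (orderOf_pos y) hy
  have h2 := W.le hQ (hW y)
  have h3 : (3 ^ n * 3 ^ n - 1) / 2 * 2 = 3 ^ n * 3 ^ n - 1 := by omega
  have h4 : (3 ^ n * 3 ^ n - 1) / 2 * 2 ≤ (3 ^ n * 3 ^ n - 1) / 2 * e := Nat.mul_le_mul_left _ h2e
  omega

/-- **The radical is a 3-group.** -/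
theorem isPGroup {G : Type u} [Group G] [Finite G] (hQ : Q n (3 ^ n) (M n)) (hW : ∀ g : G, W n (orderOf g))
    {K : Subgroup G} [K.Normal] (hKA : ∀ p : ℕ, p.Prime → p ∣ Nat.card K → p ∉ A n) [Fintype F]
    (hF : Fintype.card F = 3 ^ n * 3 ^ n) [IsSimpleGroup PSL2]
    (f : PSL2 →* G ⧸ K) (hf : Function.Injective f) {x : PSL2} (hx : orderOf x = M n) : IsPGroup 3 K := by
  classical
  -- an element of order five in `G`
  have hbM := hQ.big_M
  obtain ⟨b, hb⟩ : ∃ b : G, orderOf b = 5 := by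
    obtain ⟨g, hg⟩ := QuotientGroup.mk_surjective (f x)
    have h1 : 5 ∣ orderOf g := by
      refine hQ.five.trans ?_
      rw [← hx, ← orderOf_injective f hf, ← hg]
      exact orderOf_map_dvd (QuotientGroup.mk' K) g
    obtain ⟨k, hk⟩ := h1
    have hpos : 0 < orderOf g := orderOf_pos g
    have hk0 : k ≠ 0 := by rintro rfl; omega
    refine ⟨g ^ k, ?_⟩
    rw [orderOf_pow_of_dvd hk0 (by rw [hk]; exact Dvd.intro_left _ rfl), hk,
      Nat.mul_div_cancel _ (Nat.pos_of_ne_zero hk0)]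
  have hnil : Group.IsNilpotent K :=
    nilpotent_of_prime (Layer.spl hQ hW) K hKA (by norm_num : Nat.Prime 5) hQ.five hb
  have hall : ∀ e : ℕ, e.Prime → e ∣ Nat.card K → e = 3 := by
    intro e he hd
    obtain ⟨v, hv⟩ := Cent.exists_ne hnil he hd
    have : Nontrivial (Cent.N K e) := ⟨v, 1, hv⟩
    exact eq_three hQ hW hF f hf hx he (hKA e he hd) (fun v => Cent.N_pow v) (Cent.act K e)
      (fun c hc => Cent.exists_orderOf K he c hc)
  have : Fact (Nat.Prime 3) := ⟨Nat.prime_three⟩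
  rw [IsPGroup.iff_card]
  refine ⟨(Nat.card K).primeFactorsList.length, ?_⟩
  exact Nat.eq_prime_pow_of_unique_prime_dvd Nat.card_pos.ne' (fun {d} hd hdv => hall d hd hdv)

end Cfsg.Agent.H374.R.LThree
end
end
end
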